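import Groth.Agent.H25Len
import Groth.Agent.H8Props.NilThickTor
import Groth.Agent.H17.Reduced

/-!
Multiplicativity of lengths at maximal points of flat base changes.
-/

set_option autoImplicit false
set_option linter.style.haveILetI false
set_option backward.isDefEq.respectTransparency false

universe u

open CategoryTheory CategoryTheory.Limits AlgebraicGeometry IsLocalRing

namespace Groth.Agent.H06LenBC

theorem length_self_of_ringEquiv {R S : Type u} [CommRing R] [CommRing S] (e : R ≃+* S) :
    Module.length R R = Module.length S S := by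
  refine le_antisymm ?_ ?_
  · exact Order.krullDim_le_of_strictMono _ (e.idealComapOrderIso.symm.strictMono) |> fun h =>
      WithBot.coe_le_coe.1 ((Module.coe_length R R).trans_le (h.trans (Module.coe_length S S).ge))
  · exact Order.krullDim_le_of_strictMono _ (e.idealComapOrderIso.strictMono) |> fun h =>
      WithBot.coe_le_coe.1 ((Module.coe_length S S).trans_le (h.trans (Module.coe_length R R).ge))

/-- Lengths in a flat local extension. -/
theorem length_eq_mul_length_quotient {A B : Type u} [CommRing A] [CommRing B] [IsLocalRing A] [IsLocalRing B]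
    [IsArtinianRing A] [Algebra A B] [IsLocalHom (algebraMap A B)] [Module.Flat A B] :
    Module.length B B = Module.length A A *
      Module.length (B ⧸ (maximalIdeal A).map (algebraMap A B)) (B ⧸ (maximalIdeal A).map (algebraMap A B)) := by
  let I := (maximalIdeal A).map (algebraMap A B)
  have hI : Module.length (B ⧸ I) (B ⧸ I) = Module.length B (B ⧸ I) :=
    (Module.length_eq_of_surjective (S := B) (R := B ⧸ I) (M := B ⧸ I) Ideal.Quotient.mk_surjective).symm
  rw [hI]
  by_cases hfin : Module.length B (B ⧸ I) = ⊤
  · have h1 : Module.length B B = ⊤ := top_le_iff.1 (hfin ▸ Module.length_le_of_surjective I.mkQ I.mkQ_surjective)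
    have h2 : Module.length A A ≠ 0 := by
      rw [Ne, Module.length_eq_zero_iff]; exact not_subsingleton A
    rw [h1, hfin, ENat.mul_top h2]
  · haveI : Module.FaithfullyFlat A B := Module.FaithfullyFlat.of_flat_of_isLocalHom
    have hIB : I • (⊤ : Submodule B B) = I := by simp
    have hN : IsFiniteLength B (B ⧸ (I • (⊤ : Submodule B B))) := by
      rw [hIB]; exact Module.length_ne_top_iff.1 hfin
    have h := H25Len.length_baseChange (A := A) (B := B) A B hN
    rw [show Module.length B (TensorProduct A B A) = Module.length B B from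
      (TensorProduct.AlgebraTensorModule.rid A B B).length_eq] at h
    rw [h]
    congr 1
    exact (Submodule.quotEquivOfEq _ _ hIB).length_eq

variable {W X Z : Scheme.{u}} [IsLocallyNoetherian X] {j : Z ⟶ W} {q : Z ⟶ X.nilradical.subscheme}
  {π : W ⟶ X} [Flat π]

theorem isReduced_nilradical_subscheme (X : Scheme.{u}) : AlgebraicGeometry.IsReduced X.nilradical.subscheme := by
  rw [← Scheme.IdealSheafData.vanishingIdeal_top]
  exact H17.isReduced_vanishingIdeal_subscheme ⊤

omit [Flat π] in
theorem isArtinian_stalk {x : X} (hx : ∀ y, y ⤳ x → y = x) : IsArtinianRing (X.presheaf.stalk x) := by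
  refine isArtinianRing_iff_isNilpotent_maximalIdeal _ |>.2 ?_
  refine (Ideal.FG.isNilpotent_iff_le_nilradical (IsNoetherian.noetherian _)).2 fun a ha => ?_
  rw [nilradical_eq_sInf, Ideal.mem_sInf]
  intro P hP
  have h : X.fromSpecStalk x ⟨P, hP⟩ = X.fromSpecStalk x (closedPoint _) := by
    have : X.fromSpecStalk x ⟨P, hP⟩ ∈ Set.range (X.fromSpecStalk x) := ⟨_, rfl⟩
    rw [Scheme.range_fromSpecStalk] at this
    rw [Scheme.fromSpecStalk_closedPoint]
    exact hx _ this
  have h' : P = maximalIdeal _ := congrArg PrimeSpectrum.asIdeal ((X.fromSpecStalk x).isEmbedding.injective h)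
  exact h' ▸ ha

omit [IsLocallyNoetherian X] in
theorem map_maximal (x : W) (hx : ∀ w, w ⤳ x → w = x) : ∀ y, y ⤳ π x → y = π x := fun y hy => by
  obtain ⟨w, hw, e⟩ := Flat.generalizingMap π hy
  rw [← e, hx w hw]

theorem length_stalk (sq : IsPullback j q π X.nilradical.subschemeι) (z : Z)
    (hx : ∀ w, w ⤳ j z → w = j z) :
    Module.length (W.presheaf.stalk (j z)) (W.presheaf.stalk (j z)) =
      Module.length (X.presheaf.stalk (π (j z))) (X.presheaf.stalk (π (j z))) *
        Module.length (Z.presheaf.stalk z) (Z.presheaf.stalk z) := by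
  let A := X.presheaf.stalk (π (j z))
  let B := W.presheaf.stalk (j z)
  letI : Algebra A B := (π.stalkMap (j z)).hom.toAlgebra
  haveI : IsLocalHom (algebraMap A B) := inferInstanceAs (IsLocalHom (π.stalkMap (j z)).hom)
  haveI : Module.Flat A B := Flat.stalkMap π (j z)
  haveI : IsArtinianRing A := isArtinian_stalk (map_maximal (π := π) (j z) hx)
  haveI := isReduced_nilradical_subscheme X
  have hbase : RingHom.ker (H8Props.NilThick.baseMap sq z).hom = maximalIdeal A := by
    refine le_antisymm (le_maximalIdeal (RingHom.ker_ne_top _)) fun a ha => ?_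
    rw [RingHom.mem_ker]
    obtain ⟨n, hn⟩ := (isArtinianRing_iff_isNilpotent_maximalIdeal A).1 inferInstance
    exact IsReduced.eq_zero _ ⟨n, by
      have h1 : a ^ n = 0 := by
        have := Ideal.pow_mem_pow ha n
        rwa [hn, Ideal.zero_eq_bot, Ideal.mem_bot] at this
      rw [← map_pow, h1, map_zero]⟩
  haveI : IsClosedImmersion j := MorphismProperty.of_isPullback sq.flip inferInstance
  have hk : RingHom.ker (j.stalkMap z).hom = (maximalIdeal A).map (algebraMap A B) :=
    (H8Props.NilThick.ker_stalkMap_eq sq z).trans (by rw [hbase]; rfl)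
  let e : B ⧸ (maximalIdeal A).map (algebraMap A B) ≃+* Z.presheaf.stalk z :=
    (Ideal.quotEquivOfEq hk.symm).trans (RingHom.quotientKerEquivOfSurjective (j.stalkMap_surjective z))
  rw [← length_self_of_ringEquiv e]
  exact length_eq_mul_length_quotient

end Groth.Agent.H06LenBC
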