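import Groth.Agent.H06LenBC.Main

/-! The base change of the reduction. -/

set_option autoImplicit false
set_option linter.style.haveILetI false
set_option backward.isDefEq.respectTransparency false

universe u

open CategoryTheory CategoryTheory.Limits AlgebraicGeometry IsLocalRing

namespace Groth.Agent.H06LenBC

variable {X S T : Scheme.{u}} (s : X ⟶ S) (t : T ⟶ S)

theorem isPullback_red {e₁ : (X.nilradical.subschemeι ≫ s) ≫ 𝟙 S = X.nilradical.subschemeι ≫ s}
    {e₂ : t ≫ 𝟙 S = 𝟙 T ≫ t} :
    IsPullback (pullback.map (X.nilradical.subschemeι ≫ s) t s t X.nilradical.subschemeι (𝟙 _) (𝟙 _) e₁ e₂)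
      (pullback.fst (X.nilradical.subschemeι ≫ s) t) (pullback.fst s t) X.nilradical.subschemeι := by
  refine IsPullback.of_right ?_ (pullback.lift_fst _ _ _) (IsPullback.of_hasPullback s t).flip
  rw [show pullback.map (X.nilradical.subschemeι ≫ s) t s t X.nilradical.subschemeι (𝟙 _) (𝟙 _) e₁ e₂ ≫ pullback.snd s t =
    pullback.snd _ t from (pullback.lift_snd _ _ _).trans (Category.comp_id _)]
  exact (IsPullback.of_hasPullback _ t).flip

theorem length_stalk_eq [IsLocallyNoetherian X] [Flat t] [GeometricallyReduced t]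
    (x : ↥(pullback s t)) (hx : ∀ w, w ⤳ x → w = x) :
    Module.length ((pullback s t).presheaf.stalk x) ((pullback s t).presheaf.stalk x) =
      Module.length (X.presheaf.stalk (pullback.fst s t x)) (X.presheaf.stalk (pullback.fst s t x)) := by
  have e₁ : (X.nilradical.subschemeι ≫ s) ≫ 𝟙 S = X.nilradical.subschemeι ≫ s := Category.comp_id _
  have e₂ : t ≫ 𝟙 S = 𝟙 T ≫ t := (Category.comp_id _).trans (Category.id_comp _).symm
  let j := pullback.map (X.nilradical.subschemeι ≫ s) t s t X.nilradical.subschemeι (𝟙 _) (𝟙 _) e₁ e₂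
  have sq := isPullback_red s t (e₁ := e₁) (e₂ := e₂)
  haveI : IsClosedImmersion j := MorphismProperty.of_isPullback sq.flip inferInstance
  haveI : Surjective X.nilradical.subschemeι := ⟨Set.range_eq_univ.1 (by
    rw [Scheme.IdealSheafData.range_subschemeι, Scheme.support_nilradical]; rfl)⟩
  haveI : Surjective j := MorphismProperty.of_isPullback sq.flip inferInstance
  obtain ⟨z, rfl⟩ := j.surjective x
  haveI := isReduced_nilradical_subscheme X
  haveI : IsLocallyNoetherian X.nilradical.subscheme :=
    LocallyOfFiniteType.isLocallyNoetherian X.nilradical.subschemeι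
  haveI : AlgebraicGeometry.IsReduced (pullback (X.nilradical.subschemeι ≫ s) t) := inferInstance
  have hz : ∀ w, w ⤳ z → w = z := fun w hw => j.isEmbedding.injective (hx _ (hw.map j.continuous))
  have hfield : Module.length ((pullback (X.nilradical.subschemeι ≫ s) t).presheaf.stalk z)
      ((pullback (X.nilradical.subschemeι ≫ s) t).presheaf.stalk z) = 1 := by
    rw [Module.length_eq_one_iff, isSimpleModule_iff, ← Ring.isField_iff_isSimpleOrder_ideal]
    let B := (pullback (X.nilradical.subschemeι ≫ s) t).presheaf.stalk z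
    haveI : Ring.KrullDimLE 0 B := by
      refine Ring.KrullDimLE.mk₀ fun P hP => ?_
      have h : Scheme.fromSpecStalk _ z ⟨P, hP⟩ = Scheme.fromSpecStalk _ z (closedPoint B) := by
        have : Scheme.fromSpecStalk _ z ⟨P, hP⟩ ∈ Set.range (Scheme.fromSpecStalk _ z) := ⟨_, rfl⟩
        rw [Scheme.range_fromSpecStalk] at this
        rw [Scheme.fromSpecStalk_closedPoint]
        exact hz _ this
      have h' : P = maximalIdeal B :=
        congrArg PrimeSpectrum.asIdeal ((Scheme.fromSpecStalk _ z).isEmbedding.injective h)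
      exact h' ▸ maximalIdeal.isMaximal B
    exact IsLocalRing.isField_iff_maximalIdeal_eq.2 (le_bot_iff.1 fun a ha => by
      rw [Ideal.mem_bot]
      exact IsReduced.eq_zero a (Ring.KrullDimLE.isNilpotent_iff_mem_maximalIdeal.2 ha))
  exact (length_stalk (π := pullback.fst s t) sq z hx).trans (by rw [hfield, mul_one])

end Groth.Agent.H06LenBC
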